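import Mathlib
import Cfsg.Prelude.Def_Blocks
import Cfsg.Prelude.Def_BlockLocal
import Cfsg.Prelude.Def_Local

/-!
# S4642 (blocks of principal type over an invariant character of the `p'`-core): shared definitions

Project plan: `Cfsg/Agent/Lib/helper2/PT/PLAN.md`.  Every piece is a `Prop`-valued definition
`XProp`; a piece is proved by a theorem `x : XProp.{u}` in its own file.  The assembly
(`Cfsg/Agent/Lib/helper2/PT/Main*.lean`) takes the pieces as hypotheses.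
-/

set_option autoImplicit false

namespace Cfsg.Agent.Lib.helper2.PT

universe u

open Cfsg

/-- `χ` lies over `θ₀` (a function on the subgroup `K₀`). -/
def Over {H : Type u} [Group H] (K₀ : Subgroup H) [Fintype K₀] (θ₀ : K₀ → ℂ) (χ : H → ℂ) : Prop :=
  classInner (fun k : K₀ => χ k) θ₀ ≠ 0

/-- `θ₀` is invariant under conjugation by all of `H` (the form used in the statement S4642). -/
def Inv {H : Type u} [Group H] (K₀ : Subgroup H) (θ₀ : K₀ → ℂ) : Prop :=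
  ∀ g : H, IsConjCharOf K₀ g θ₀ θ₀

/-- The standing hypotheses: `K₀ ≤ L₀` normal in `H`, `K₀` a `p'`-group, `L₀ / K₀` a `p`-group,
and every `p`-regular element of `H` acting trivially on `L₀ / K₀` lies in `K₀`. -/
structure Setup (p : ℕ) {H : Type u} [Group H] (K₀ L₀ : Subgroup H) : Prop where
  nK : K₀.Normal
  nL : L₀.Normal
  le : K₀ ≤ L₀
  cop : (Nat.card K₀).Coprime p
  pow : ∃ k : ℕ, K₀.relIndex L₀ = p ^ k
  cent : ∀ c : H, ¬ p ∣ orderOf c → (∀ l ∈ L₀, c * l * c⁻¹ * l⁻¹ ∈ K₀) → c ∈ K₀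

/-- (★) All irreducible characters over an invariant `θ₀` lie in one block. -/
def StarProp : Prop :=
  ∀ (p : ℕ) [Fact p.Prime] (M : Ideal AlgInt), IsPModular p M →
  ∀ (H : Type u) [Group H] [Fintype H] (K₀ L₀ : Subgroup H) [Fintype K₀], Setup p K₀ L₀ →
  ∀ θ₀ : IrrCharacter K₀, Inv K₀ (θ₀ : K₀ → ℂ) →
  ∀ χ ψ : IrrCharacter H, Over K₀ (θ₀ : K₀ → ℂ) (χ : H → ℂ) → Over K₀ (θ₀ : K₀ → ℂ) (ψ : H → ℂ) →
    SameBlock M (χ : H → ℂ) (ψ : H → ℂ)

/-- (P1) Case 0: all `p`-regular elements lie in `K₀` (so `H / K₀` is a `p`-group): S0954. -/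
def Case0Prop : Prop :=
  ∀ (p : ℕ) [Fact p.Prime] (M : Ideal AlgInt), IsPModular p M →
  ∀ (H : Type u) [Group H] [Fintype H] (K₀ : Subgroup H) [K₀.Normal] [Fintype K₀],
  (Nat.card K₀).Coprime p → (∀ c : H, ¬ p ∣ orderOf c → c ∈ K₀) →
  ∀ θ₀ : IrrCharacter K₀,
  ∀ χ ψ : IrrCharacter H, Over K₀ (θ₀ : K₀ → ℂ) (χ : H → ℂ) → Over K₀ (θ₀ : K₀ → ℂ) (ψ : H → ℂ) →
    SameBlock M (χ : H → ℂ) (ψ : H → ℂ)

/-- (P2) A block over `θ₀` of full defect: all Sylow `p`-subgroups are defect groups and it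
contains a character of degree prime to `p`. -/
def BigBlockProp : Prop :=
  ∀ (p : ℕ) [Fact p.Prime] (M : Ideal AlgInt), IsPModular p M →
  ∀ (H : Type u) [Group H] [Fintype H] (K₀ : Subgroup H) [K₀.Normal] [Fintype K₀],
  (Nat.card K₀).Coprime p →
  ∀ θ₀ : IrrCharacter K₀, Inv K₀ (θ₀ : K₀ → ℂ) →
  ∃ ξ₀ : IrrCharacter H, Over K₀ (θ₀ : K₀ → ℂ) (ξ₀ : H → ℂ) ∧
    ¬ p ∣ charDegree (ξ₀ : H → ℂ) ∧
    ∀ S : Sylow p H, IsDefectGroup p M (blockOf M (ξ₀ : H → ℂ)) (S : Subgroup H)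

/-- (P2') the characters over an invariant `θ₀` of a normal `p'`-subgroup form a union of blocks. -/
def OverClosedProp : Prop :=
  ∀ (p : ℕ) [Fact p.Prime] (M : Ideal AlgInt), IsPModular p M →
  ∀ (H : Type u) [Group H] [Fintype H] (K₀ : Subgroup H) [K₀.Normal] [Fintype K₀],
  (Nat.card K₀).Coprime p →
  ∀ θ₀ : IrrCharacter K₀, Inv K₀ (θ₀ : K₀ → ℂ) →
  ∀ χ ψ : IrrCharacter H, SameBlock M (χ : H → ℂ) (ψ : H → ℂ) →
    Over K₀ (θ₀ : K₀ → ℂ) (χ : H → ℂ) → Over K₀ (θ₀ : K₀ → ℂ) (ψ : H → ℂ)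

/-- (P3) Twisted dominance: every `p`-element of `L₀` lies in a defect group of every block
over `θ₀`. -/
def TDProp : Prop :=
  ∀ (p : ℕ) [Fact p.Prime] (M : Ideal AlgInt), IsPModular p M →
  ∀ (H : Type u) [Group H] [Fintype H] (K₀ L₀ : Subgroup H) [Fintype K₀], Setup p K₀ L₀ →
  ∀ θ₀ : IrrCharacter K₀, Inv K₀ (θ₀ : K₀ → ℂ) →
  ∀ χ : IrrCharacter H, Over K₀ (θ₀ : K₀ → ℂ) (χ : H → ℂ) →
  ∀ u : H, u ∈ L₀ → (∃ k : ℕ, orderOf u = p ^ k) →
    ∃ D : Subgroup H, IsDefectGroup p M (blockOf M (χ : H → ℂ)) D ∧ u ∈ D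

/-- (P5) The standing hypotheses pass to centralizers of `p`-subgroups. -/
def TransferProp : Prop :=
  ∀ (p : ℕ) [Fact p.Prime] (H : Type u) [Group H] [Finite H] (K₀ L₀ : Subgroup H),
  Setup p K₀ L₀ → ∀ R : Subgroup H, IsPGroup p R →
    Setup p (K₀.subgroupOf (Subgroup.centralizer (R : Set H)))
      (L₀.subgroupOf (Subgroup.centralizer (R : Set H)))

/-- The multiplicity property characterising the Glauberman correspondent `θ₁` of `θ₀`:
`θ₁` is the only irreducible constituent of the restriction of `θ₀` to `K₁ = C_{K₀}(R)` (given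
as a subgroup of `C = C_H(R)`) whose multiplicity is prime to `p`. -/
def IsGlaub (p : ℕ) {H : Type u} [Group H] (K₀ : Subgroup H) (C : Subgroup H)
    [Fintype (K₀.subgroupOf C)] (θ₀ : K₀ → ℂ) (θ₁ : IrrCharacter (K₀.subgroupOf C)) : Prop :=
  ∀ φ : IrrCharacter (K₀.subgroupOf C), ∃ m : ℕ,
    classInner (fun k : K₀.subgroupOf C => θ₀ ⟨((k : C) : H), k.2⟩) (φ : K₀.subgroupOf C → ℂ)
      = (m : ℂ) ∧ (p ∣ m ↔ φ ≠ θ₁)

/-- (P6) Glauberman package: the correspondent exists, is invariant under `C_H(R)`, and the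
central characters correspond under the Brauer map. -/
def GlaubProp : Prop :=
  ∀ (p : ℕ) [Fact p.Prime] (M : Ideal AlgInt), IsPModular p M →
  ∀ (H : Type u) [Group H] [Fintype H] (K₀ : Subgroup H) [K₀.Normal] [Fintype K₀],
  (Nat.card K₀).Coprime p →
  ∀ θ₀ : IrrCharacter K₀, Inv K₀ (θ₀ : K₀ → ℂ) →
  ∀ R : Subgroup H, IsPGroup p R →
  ∀ [Fintype (K₀.subgroupOf (Subgroup.centralizer (R : Set H)))],
  ∃ θ₁ : IrrCharacter (K₀.subgroupOf (Subgroup.centralizer (R : Set H))),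
    Inv (K₀.subgroupOf (Subgroup.centralizer (R : Set H)))
      (θ₁ : K₀.subgroupOf (Subgroup.centralizer (R : Set H)) → ℂ) ∧
    IsGlaub p K₀ (Subgroup.centralizer (R : Set H)) (θ₀ : K₀ → ℂ) θ₁ ∧
    ∀ g : K₀, MemLocalIdeal M
      (((Subgroup.centralizer ({(g : H)} : Set H)).index : ℂ) * (θ₀ : K₀ → ℂ) g / (θ₀ : K₀ → ℂ) 1 -
        ∑ᶠ h ∈ {h : K₀.subgroupOf (Subgroup.centralizer (R : Set H)) |
            IsConj (g : H) (((h : Subgroup.centralizer (R : Set H)) : H))},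
          (θ₁ : K₀.subgroupOf (Subgroup.centralizer (R : Set H)) → ℂ) h /
            (θ₁ : K₀.subgroupOf (Subgroup.centralizer (R : Set H)) → ℂ) 1)

/-- (P7) A block whose defect group contains the `p`-subgroup `R` is induced from a block of
`C_H(R)`. -/
def IndFromCentProp : Prop :=
  ∀ (p : ℕ) [Fact p.Prime] (M : Ideal AlgInt), IsPModular p M →
  ∀ (H : Type u) [Group H] [Fintype H] (B : Set (IrrCharacter H)), IsPBlock M B →
  ∀ D : Subgroup H, IsDefectGroup p M B D → ∀ R : Subgroup H, R ≤ D →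
    ∃ f : Set (IrrCharacter (Subgroup.centralizer (R : Set H))),
      IsInducedBlock M (Subgroup.centralizer (R : Set H)) f B

/-- (P8) A block of `C_H(R)` inducing a block over `θ₀` lies over the Glauberman
correspondent. -/
def LieOverProp : Prop :=
  ∀ (p : ℕ) [Fact p.Prime] (M : Ideal AlgInt), IsPModular p M →
  ∀ (H : Type u) [Group H] [Fintype H] (K₀ : Subgroup H) [K₀.Normal] [Fintype K₀],
  (Nat.card K₀).Coprime p →
  ∀ θ₀ : IrrCharacter K₀, Inv K₀ (θ₀ : K₀ → ℂ) →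
  ∀ R : Subgroup H, IsPGroup p R →
  ∀ [Fintype (K₀.subgroupOf (Subgroup.centralizer (R : Set H)))]
    (θ₁ : IrrCharacter (K₀.subgroupOf (Subgroup.centralizer (R : Set H)))),
    IsGlaub p K₀ (Subgroup.centralizer (R : Set H)) (θ₀ : K₀ → ℂ) θ₁ →
  ∀ χ : IrrCharacter H, Over K₀ (θ₀ : K₀ → ℂ) (χ : H → ℂ) →
  ∀ f : Set (IrrCharacter (Subgroup.centralizer (R : Set H))),
    IsInducedBlock M (Subgroup.centralizer (R : Set H)) f (blockOf M (χ : H → ℂ)) →
  ∀ ξ ∈ f, Over (K₀.subgroupOf (Subgroup.centralizer (R : Set H)))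
      (θ₁ : K₀.subgroupOf (Subgroup.centralizer (R : Set H)) → ℂ)
      (ξ : Subgroup.centralizer (R : Set H) → ℂ)

/-- (P10a) Under the standing hypotheses a `p`-regular element outside `K₀` has class size
divisible by `p`. -/
def ClassDvdProp : Prop :=
  ∀ (p : ℕ) [Fact p.Prime] (H : Type u) [Group H] [Finite H] (K₀ L₀ : Subgroup H),
  Setup p K₀ L₀ → ∀ g : H, ¬ p ∣ orderOf g → g ∉ K₀ →
    p ∣ (Subgroup.centralizer ({g} : Set H)).index

/-- (P11a) For `C = C_H(R)` the induced central character from `C` is a central character of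
`H` modulo `M` (Brauer homomorphism). -/
def BrauerCentProp : Prop :=
  ∀ (p : ℕ) [Fact p.Prime] (M : Ideal AlgInt), IsPModular p M →
  ∀ (H : Type u) [Group H] [Fintype H] (R : Subgroup H), IsPGroup p R →
  ∀ ξ : IrrCharacter (Subgroup.centralizer (R : Set H)),
  ∃ χ₀ : IrrCharacter H, ∀ g : H, MemLocalIdeal M
    (inducedCentralChar (Subgroup.centralizer (R : Set H))
      (ξ : Subgroup.centralizer (R : Set H) → ℂ) g - centralChar (χ₀ : H → ℂ) g)

end Cfsg.Agent.Lib.helper2.PT
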