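import Mathlib
import Cfsg.Agent.Lib.helper2.PT.Defs

/-!
# S4642: sub-pieces of PT-TD (twisted dominance)
-/

set_option autoImplicit false

namespace Cfsg.Agent.Lib.helper2.PT

universe u

open Cfsg

/-- (TD1) an `H`-invariant irreducible character of `L₀` extending `θ₀` (canonical extension). -/
def TD1Prop : Prop :=
  ∀ (p : ℕ) [Fact p.Prime] (H : Type u) [Group H] [Fintype H] (K₀ L₀ : Subgroup H) [Fintype K₀]
    (S : Setup p K₀ L₀) (θ₀ : IrrCharacter K₀), Inv K₀ (θ₀ : K₀ → ℂ) →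
  ∃ θh : IrrCharacter L₀, (∀ k : K₀, (θh : L₀ → ℂ) ⟨(k : H), S.le k.2⟩ = (θ₀ : K₀ → ℂ) k) ∧
    Inv L₀ (θh : L₀ → ℂ)

/-- (TD2) twisted dominance: the block of a character over `θ₀` contains a character lying over
any given extension `θh` of `θ₀` to `L₀`. -/
def TD2Prop : Prop :=
  ∀ (p : ℕ) [Fact p.Prime] (M : Ideal AlgInt), IsPModular p M →
  ∀ (H : Type u) [Group H] [Fintype H] (K₀ L₀ : Subgroup H) [Fintype K₀] [Fintype L₀]
    (S : Setup p K₀ L₀) (θ₀ : IrrCharacter K₀), Inv K₀ (θ₀ : K₀ → ℂ) →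
  ∀ θh : IrrCharacter L₀, (∀ k : K₀, (θh : L₀ → ℂ) ⟨(k : H), S.le k.2⟩ = (θ₀ : K₀ → ℂ) k) →
  ∀ χ : IrrCharacter H, Over K₀ (θ₀ : K₀ → ℂ) (χ : H → ℂ) →
    ∃ ψ : IrrCharacter H, ψ ∈ blockOf M (χ : H → ℂ) ∧ Over L₀ (θh : L₀ → ℂ) (ψ : H → ℂ)

/-- (TD3) assembly of `TDProp` from TD1 and TD2 (Clifford + S0924). -/
def TD3Prop : Prop := TD1Prop.{u} → TD2Prop.{u} → TDProp.{u}

end Cfsg.Agent.Lib.helper2.PT
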