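import Mathlib
import Cfsg.Agent.Lib.helper2.PT.Defs
import Cfsg.Agent.S4444
import Cfsg.Agent.Lib.helper2.CharNat
import Cfsg.Agent.Lib.helper2.CharInt
import Cfsg.Agent.Lib.helper2.BergerG1
import Cfsg.Agent.Lib.helper2.MGroup2
import Cfsg.Agent.Lib.helper7.Clifford
import Cfsg.Agent.Lib.helper7.BlockCover
import Cfsg.Agent.Lib.helper7.BlockInd2
import Cfsg.Agent.Lib.helper7.BlockOsima

/-!
# S4642, piece PT-Glaub: the Glauberman correspondent and the Brauer map
-/

set_option autoImplicit false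
set_option linter.unusedSectionVars false
set_option linter.unusedVariables false
set_option linter.style.haveILetI false

namespace Cfsg.Agent.Lib.helper2.PT

universe u

open scoped ComplexConjugate
open Cfsg Cfsg.Agent.Lib.helper7 Cfsg.Agent.Lib.Helper11 Cfsg.Agent.Lib.helper2

section

variable {H : Type u} [Group H]

/-- `K₀ ∩ C` as a subgroup of `C` versus as a subgroup of `H` -/
def glEqv (K₀ C : Subgroup H) : ↥(K₀.subgroupOf C) ≃* ↥(K₀ ⊓ C) where
  toFun k := ⟨((k : C) : H), ⟨k.2, (k : C).2⟩⟩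
  invFun c := ⟨⟨(c : H), c.2.2⟩, c.2.1⟩
  left_inv := fun _ => rfl
  right_inv := fun _ => rfl
  map_mul' := fun _ _ => rfl

theorem glEqv_coe (K₀ C : Subgroup H) (k : K₀.subgroupOf C) :
    ((glEqv K₀ C k : ↥(K₀ ⊓ C)) : H) = ((k : C) : H) := rfl

/-- restriction of `θ₀` to `K₁ = K₀.subgroupOf C` -/
def glRes (K₀ C : Subgroup H) (θ₀ : K₀ → ℂ) : K₀.subgroupOf C → ℂ :=
  fun k => θ₀ ⟨((k : C) : H), k.2⟩

theorem glRes_isCharacter (K₀ C : Subgroup H) (θ₀ : K₀ → ℂ) (hθ₀ : IsCharacter K₀ θ₀) :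
    IsCharacter (K₀.subgroupOf C) (glRes K₀ C θ₀) := by
  let f : K₀.subgroupOf C →* K₀ :=
    { toFun := fun k => ⟨((k : C) : H), k.2⟩
      map_one' := rfl
      map_mul' := fun _ _ => rfl }
  exact isCharacter_comp_hom hθ₀ f

end

/-- multiplicities and uniqueness in the form needed (`IsGlaub`), for `C` given abstractly -/
theorem glaub_exists_aux {H : Type u} [Group H] [Fintype H] (p : ℕ) [hp : Fact p.Prime]
    (K₀ : Subgroup H) [hK : K₀.Normal] [Fintype K₀] (hcop : (Nat.card K₀).Coprime p)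
    (θ₀ : IrrCharacter K₀) (hinv : Inv K₀ (θ₀ : K₀ → ℂ)) (R : Subgroup H) (hR : IsPGroup p R)
    (C : Subgroup H) (hC : C = Subgroup.centralizer (R : Set H))
    [Fintype (K₀.subgroupOf C)] :
    ∃ θ₁ : IrrCharacter (K₀.subgroupOf C), IsGlaub p K₀ C (θ₀ : K₀ → ℂ) θ₁ := by
  classical
  haveI : Fintype (K₀ ⊓ C : Subgroup H) := Fintype.ofFinite _
  have hCG : (K₀ ⊓ C : Subgroup H) ≤ K₀ := inf_le_left
  have hnorm : ∀ s ∈ R, ∀ g ∈ K₀, s * g * s⁻¹ ∈ K₀ := fun s _ g hg => hK.conj_mem g hg s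
  have hcop' : (Nat.card K₀).Coprime (Nat.card R) := by
    obtain ⟨k, hk⟩ := IsPGroup.iff_card.mp hR
    rw [hk]
    exact Nat.Coprime.pow_right k hcop
  obtain ⟨h1, -, -, -⟩ := Cfsg.Agent.S4444.result K₀ R hnorm hcop' p hp.out hR (K₀ ⊓ C)
    (by rw [hC]) hCG
  have hRinv : ∀ s ∈ R, ∀ g g' : K₀, (g' : H) = s * g * s⁻¹ →
      (θ₀ : K₀ → ℂ) g' = (θ₀ : K₀ → ℂ) g := fun s _ g g' hgg => hinv s g g' hgg
  obtain ⟨β, ⟨m₀, hm₀, hpm₀⟩, huniq⟩ := h1 θ₀ hRinv
  let e := glEqv K₀ C
  -- the correspondent on K₁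
  have hirr : IsIrrCharacter (K₀.subgroupOf C) (fun k => (β : ↥(K₀ ⊓ C) → ℂ) (e k)) :=
    bg_irr_comp_surjective e.toMonoidHom e.surjective β.2
  refine ⟨⟨_, hirr⟩, ?_⟩
  intro φ
  have hres : glRes K₀ C (θ₀ : K₀ → ℂ) =
      fun k => (fun c : ↥(K₀ ⊓ C) => (θ₀ : K₀ → ℂ) ⟨c, hCG c.2⟩) (e k) := rfl
  obtain ⟨m, hm⟩ := classInner_character_nat
    (glRes_isCharacter K₀ C (θ₀ : K₀ → ℂ) (isCharacter_of_irr θ₀)) (isCharacter_of_irr φ)
  refine ⟨m, hm, ?_⟩
  -- transport φ to C'
  have hφ' : IsIrrCharacter ↥(K₀ ⊓ C) (fun c => (φ : K₀.subgroupOf C → ℂ) (e.symm c)) :=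
    bg_irr_comp_surjective e.symm.toMonoidHom e.symm.surjective φ.2
  have hφe : (φ : K₀.subgroupOf C → ℂ) =
      fun k => (fun c => (φ : K₀.subgroupOf C → ℂ) (e.symm c)) (e k) := by
    funext k
    simp
  have hin : classInner (fun c : ↥(K₀ ⊓ C) => (θ₀ : K₀ → ℂ) ⟨c, hCG c.2⟩)
      (fun c => (φ : K₀.subgroupOf C → ℂ) (e.symm c)) = (m : ℂ) := by
    rw [← hm, hres, hφe]
    exact (classInner_comp_surjective e.toMonoidHom e.surjective _ _).symm
  constructor
  · intro hpm hφeq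
    -- φ = θ₁ would give multiplicity m₀
    have : (fun c => (φ : K₀.subgroupOf C → ℂ) (e.symm c)) = (β : ↥(K₀ ⊓ C) → ℂ) := by
      funext c
      rw [hφeq]
      simp
    rw [this, hm₀] at hin
    have : m₀ = m := by exact_mod_cast hin
    exact hpm₀ (this ▸ hpm)
  · intro hne
    by_contra hpm
    have := huniq ⟨_, hφ'⟩ ⟨m, hin, hpm⟩
    apply hne
    apply Subtype.ext
    funext k
    have h2 := congrArg (fun b : IrrCharacter ↥(K₀ ⊓ C) => (b : ↥(K₀ ⊓ C) → ℂ) (e k)) this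
    simp only at h2
    rw [← h2]
    simp

/-- invariance of the correspondent -/
theorem gl_inv {C : Type*} [Group C] (K : Subgroup C) [hK : K.Normal] [Fintype K] (p : ℕ)
    (res : K → ℂ) (hres : ∀ c : C, cj K res c = res) (θ₁ : IrrCharacter K)
    (hG : ∀ φ : IrrCharacter K, ∃ m : ℕ, classInner res (φ : K → ℂ) = (m : ℂ) ∧
      (p ∣ m ↔ φ ≠ θ₁)) (c : C) :
    cj K (θ₁ : K → ℂ) c = (θ₁ : K → ℂ) := by
  classical
  obtain ⟨m, h1, h2⟩ := hG ⟨cj K (θ₁ : K → ℂ) c, isIrr_cj K _ θ₁.2 c⟩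
  obtain ⟨m₁, h3, h4⟩ := hG θ₁
  have h5 : classInner res (cj K (θ₁ : K → ℂ) c) = classInner res (θ₁ : K → ℂ) := by
    conv_lhs => rw [← hres c]
    exact h7_classInner_cj_cj K res _ c
  have hmm : m = m₁ := by
    have : (m : ℂ) = (m₁ : ℂ) := by rw [← h1, ← h3]; exact h5
    exact_mod_cast this
  have hnd : ¬ p ∣ m := by
    rw [hmm]
    intro h
    exact (h4.mp h) rfl
  have := not_not.mp (fun h => hnd (h2.mpr h))
  exact congrArg Subtype.val this

/-- the ratio congruence on `K₁` -/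
theorem gl_ratio {K : Type*} [Group K] [Fintype K] {p : ℕ} [hp : Fact p.Prime]
    {M : Ideal AlgInt} (hM : IsPModular p M) (hcop : (Nat.card K).Coprime p)
    (res : K → ℂ) (hres : IsCharacter K res) (d : ℕ) (hd : res 1 = (d : ℂ)) (hdp : d.Coprime p)
    (θ₁ : IrrCharacter K)
    (hG : ∀ φ : IrrCharacter K, ∃ m : ℕ, classInner res (φ : K → ℂ) = (m : ℂ) ∧
      (p ∣ m ↔ φ ≠ θ₁)) (x : K) :
    MemLocalIdeal M (res x / res 1 - (θ₁ : K → ℂ) x / (θ₁ : K → ℂ) 1) := by
  classical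
  haveI : Fintype (IrrCharacter K) := Fintype.ofFinite _
  have hPr := hM.2.1.isPrime
  obtain ⟨m, hm, hexp⟩ := isCharacter_expansion hres
  have hdiv : ∀ φ, φ ≠ θ₁ → p ∣ m φ := by
    intro φ hφ
    obtain ⟨m', h1, h2⟩ := hG φ
    have : m φ = m' := by
      have : (m φ : ℂ) = (m' : ℂ) := by rw [← hm φ, h1]
      exact_mod_cast this
    rw [this]
    exact h2.mpr hφ
  have hA : ∀ y : K, MemLocalIdeal M (res y - (m θ₁ : ℂ) * (θ₁ : K → ℂ) y) := by
    intro y
    have : res y - (m θ₁ : ℂ) * (θ₁ : K → ℂ) y =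
        ∑ φ ∈ Finset.univ.erase θ₁, (m φ : ℂ) * (φ : K → ℂ) y := by
      have h1 := congrFun hexp y
      rw [Finset.sum_apply] at h1
      simp only [Pi.smul_apply, smul_eq_mul] at h1
      rw [h1, ← Finset.add_sum_erase _ _ (Finset.mem_univ θ₁)]
      ring
    rw [this]
    apply h7_memLocalIdeal_sum hPr
    intro φ hφ
    obtain ⟨k, hk⟩ := hdiv φ (Finset.ne_of_mem_erase hφ)
    rw [hk]
    push_cast
    rw [mul_assoc]
    exact h7_memLocalIdeal_mul_right hPr (h7_memLocalIdeal_p hM)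
      (h7_memLocalRing_mul hPr (h7_memLocalRing_natCast hPr k)
        (h7_memLocalRing_of_isIntegral hPr (irr_integral φ y)))
  obtain ⟨n₁, hn₁pos, hn₁, hn₁dvd⟩ := irr_degree_dvd_card θ₁
  have hn₁p : n₁.Coprime p := Nat.Coprime.coprime_dvd_left hn₁dvd hcop
  have hd0 : (d : ℂ) ≠ 0 := by
    intro h
    have : d = 0 := by exact_mod_cast h
    rw [this] at hdp
    have := hp.out.one_lt
    simp at hdp
    omega
  have hn0 : (n₁ : ℂ) ≠ 0 := by exact_mod_cast hn₁pos.ne'
  have e : res x / res 1 - (θ₁ : K → ℂ) x / (θ₁ : K → ℂ) 1 =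
      ((res x - (m θ₁ : ℂ) * (θ₁ : K → ℂ) x) * (θ₁ : K → ℂ) 1 -
        (θ₁ : K → ℂ) x * (res 1 - (m θ₁ : ℂ) * (θ₁ : K → ℂ) 1)) *
          ((d : ℂ)⁻¹ * (n₁ : ℂ)⁻¹) := by
    rw [hd, hn₁]
    field_simp
    ring
  rw [e]
  apply h7_memLocalIdeal_mul_right hPr
  · apply h7_memLocalIdeal_sub hPr
    · apply h7_memLocalIdeal_mul_right hPr (hA x)
      exact h7_memLocalRing_of_isIntegral hPr (irr_integral θ₁ 1)
    · apply h7_memLocalIdeal_mul_left hPr _ (hA 1)
      exact h7_memLocalRing_of_isIntegral hPr (irr_integral θ₁ x)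
  · exact h7_memLocalRing_mul hPr (h7_memLocalRing_inv_natCast hM d hdp)
      (h7_memLocalRing_inv_natCast hM n₁ hn₁p)

/-- fixed-point count: the class of `g` and its part centralizing the `p`-group `R` -/
theorem gl_count {H : Type*} [Group H] [Finite H] (p : ℕ) [hp : Fact p.Prime] (R : Subgroup H)
    (hR : IsPGroup p R) (g : H) :
    Nat.card {x : H // IsConj g x} ≡
      Nat.card {x : H // IsConj g x ∧ x ∈ Subgroup.centralizer (R : Set H)} [MOD p] := by
  classical
  letI act : MulAction R {x : H // IsConj g x} :=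
    { smul := fun r x => ⟨(r : H) * x.1 * (r : H)⁻¹, x.2.trans (isConj_iff.mpr ⟨(r : H), rfl⟩)⟩
      one_smul := fun x => by
        apply Subtype.ext
        change ((1 : R) : H) * x.1 * ((1 : R) : H)⁻¹ = x.1
        simp
      mul_smul := fun r s x => by
        apply Subtype.ext
        change ((r * s : R) : H) * x.1 * ((r * s : R) : H)⁻¹ =
          (r : H) * ((s : H) * x.1 * (s : H)⁻¹) * (r : H)⁻¹
        simp only [Subgroup.coe_mul, mul_inv_rev]
        group }
  have h1 := hR.card_modEq_card_fixedPoints {x : H // IsConj g x}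
  have h2 : Nat.card (MulAction.fixedPoints R {x : H // IsConj g x}) =
      Nat.card {x : H // IsConj g x ∧ x ∈ Subgroup.centralizer (R : Set H)} := by
    apply Nat.card_congr
    refine
      { toFun := fun x => ⟨x.1.1, x.1.2, ?_⟩
        invFun := fun x => ⟨⟨x.1, x.2.1⟩, ?_⟩
        left_inv := fun x => rfl
        right_inv := fun x => rfl }
    · rw [Subgroup.mem_centralizer_iff]
      intro r hr
      have := x.2 ⟨r, hr⟩
      have h3 := congrArg Subtype.val this
      change r * x.1.1 * r⁻¹ = x.1.1 at h3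
      calc r * x.1.1 = (r * x.1.1 * r⁻¹) * r := by group
        _ = x.1.1 * r := by rw [h3]
    · intro r
      apply Subtype.ext
      change (r : H) * x.1 * (r : H)⁻¹ = x.1
      have := (Subgroup.mem_centralizer_iff.mp x.2.2) r r.2
      rw [this]
      group
  rw [← h2]
  exact h1

theorem gl_memLocalRing_intCast {M : Ideal AlgInt} (hPr : M.IsPrime) (z : ℤ) :
    MemLocalRing M (z : ℂ) := by
  have := h7_memLocalRing_of_algInt hPr (z : AlgInt)
  simpa using this

/-- PT-Glaub -/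
theorem glaub : GlaubProp.{u} := by
  intro p hp M hM H _ _ K₀ hK _ hcop θ₀ hinv R hR _
  classical
  have hPr := hM.2.1.isPrime
  obtain ⟨θ₁, hθ₁⟩ := glaub_exists_aux p K₀ hcop θ₀ hinv R hR
    (Subgroup.centralizer (R : Set H)) rfl
  have hres : ∀ c : Subgroup.centralizer (R : Set H),
      cj (K₀.subgroupOf (Subgroup.centralizer (R : Set H)))
        (glRes K₀ (Subgroup.centralizer (R : Set H)) (θ₀ : K₀ → ℂ)) c =
      glRes K₀ (Subgroup.centralizer (R : Set H)) (θ₀ : K₀ → ℂ) := by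
    intro c
    funext k
    rw [cj_apply]
    exact hinv (c : H) ⟨((k : Subgroup.centralizer (R : Set H)) : H), k.2⟩ _ rfl
  have hcopK₁ : (Nat.card (K₀.subgroupOf (Subgroup.centralizer (R : Set H)))).Coprime p := by
    have h1 : Nat.card (K₀.subgroupOf (Subgroup.centralizer (R : Set H))) ∣ Nat.card K₀ := by
      rw [Nat.card_congr (glEqv K₀ (Subgroup.centralizer (R : Set H))).toEquiv]
      exact Subgroup.card_dvd_of_le inf_le_left
    exact Nat.Coprime.coprime_dvd_left h1 hcop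
  refine ⟨θ₁, ?_, hθ₁, ?_⟩
  · intro c k k' hk
    have h1 := congrFun (gl_inv (K₀.subgroupOf (Subgroup.centralizer (R : Set H))) p
      (glRes K₀ (Subgroup.centralizer (R : Set H)) (θ₀ : K₀ → ℂ)) hres θ₁ hθ₁ c) k
    rw [cj_apply] at h1
    rw [← h1]
    have h3 : k' = ⟨c * (k : Subgroup.centralizer (R : Set H)) * c⁻¹,
        (inferInstance : (K₀.subgroupOf (Subgroup.centralizer (R : Set H))).Normal).conj_mem k k.2 c⟩ := by
      apply Subtype.ext
      exact hk
    rw [h3]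
  · intro g
    obtain ⟨d, hdpos, hd, hddvd⟩ := irr_degree_dvd_card θ₀
    have hdp : d.Coprime p := Nat.Coprime.coprime_dvd_left hddvd hcop
    -- the index is the class size
    have hn : (Subgroup.centralizer ({(g : H)} : Set H)).index =
        Nat.card {x : H // IsConj (g : H) x} := by
      have h1 := Cfsg.Agent.Lib.Helper25.card_conj_mul_card_centralizer (g : H)
      have h2 := Subgroup.card_mul_index (Subgroup.centralizer ({(g : H)} : Set H))
      have h3 : 0 < Nat.card (Subgroup.centralizer ({(g : H)} : Set H)) := Nat.card_pos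
      rw [← h1, mul_comm] at h2
      exact Nat.eq_of_mul_eq_mul_right h3 h2
    -- the finsum as a finite sum
    rw [h7_finsum_mem_fintype, ← Finset.sum_filter]
    set T := Finset.univ.filter (fun h : K₀.subgroupOf (Subgroup.centralizer (R : Set H)) =>
      h ∈ {h : K₀.subgroupOf (Subgroup.centralizer (R : Set H)) |
        IsConj (g : H) (((h : Subgroup.centralizer (R : Set H)) : H))}) with hT
    have hTcard : T.card =
        Nat.card {x : H // IsConj (g : H) x ∧ x ∈ Subgroup.centralizer (R : Set H)} := by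
      have h1 : T.card = Nat.card {h : K₀.subgroupOf (Subgroup.centralizer (R : Set H)) //
          IsConj (g : H) (((h : Subgroup.centralizer (R : Set H)) : H))} := by
        rw [Nat.card_eq_fintype_card, Fintype.card_subtype]
        rfl
      rw [h1]
      apply Nat.card_congr
      refine
        { toFun := fun h => ⟨((h.1 : Subgroup.centralizer (R : Set H)) : H), h.2, (h.1 : Subgroup.centralizer (R : Set H)).2⟩
          invFun := fun x => ⟨⟨⟨x.1, x.2.2⟩, ?_⟩, x.2.1⟩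
          left_inv := fun h => rfl
          right_inv := fun x => rfl }
      obtain ⟨c, hc⟩ := isConj_iff.mp x.2.1
      rw [Subgroup.mem_subgroupOf]
      change x.1 ∈ K₀
      rw [← hc]
      exact hK.conj_mem _ g.2 c
    have hmod := gl_count p R hR (g : H)
    rw [← hn, ← hTcard] at hmod
    obtain ⟨z, hz⟩ := (Nat.modEq_iff_dvd.mp hmod)
    have hzC : ((T.card : ℕ) : ℂ) - ((Subgroup.centralizer ({(g : H)} : Set H)).index : ℂ) =
        (p : ℂ) * (z : ℂ) := by
      have := congrArg (fun t : ℤ => (t : ℂ)) hz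
      push_cast at this
      exact this
    have e : ((Subgroup.centralizer ({(g : H)} : Set H)).index : ℂ) * (θ₀ : K₀ → ℂ) g /
          (θ₀ : K₀ → ℂ) 1 -
        ∑ h ∈ T, (θ₁ : K₀.subgroupOf (Subgroup.centralizer (R : Set H)) → ℂ) h /
          (θ₁ : K₀.subgroupOf (Subgroup.centralizer (R : Set H)) → ℂ) 1 =
        -((p : ℂ) * ((z : ℂ) * ((θ₀ : K₀ → ℂ) g * (d : ℂ)⁻¹))) +
        ∑ h ∈ T, ((θ₀ : K₀ → ℂ) g / (θ₀ : K₀ → ℂ) 1 -
          (θ₁ : K₀.subgroupOf (Subgroup.centralizer (R : Set H)) → ℂ) h /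
          (θ₁ : K₀.subgroupOf (Subgroup.centralizer (R : Set H)) → ℂ) 1) := by
      rw [Finset.sum_sub_distrib, Finset.sum_const, nsmul_eq_mul, hd]
      have : ((Subgroup.centralizer ({(g : H)} : Set H)).index : ℂ) =
          (T.card : ℂ) - (p : ℂ) * (z : ℂ) := by rw [← hzC]; ring
      rw [this]
      ring
    rw [e]
    apply h7_memLocalIdeal_add hPr
    · apply h7_memLocalIdeal_neg
      apply h7_memLocalIdeal_mul_right hPr (h7_memLocalIdeal_p hM)
      apply h7_memLocalRing_mul hPr (gl_memLocalRing_intCast hPr z)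
      exact h7_memLocalRing_mul hPr (h7_memLocalRing_of_isIntegral hPr (irr_integral θ₀ g))
        (h7_memLocalRing_inv_natCast hM d hdp)
    · apply h7_memLocalIdeal_sum hPr
      intro h hh
      have hconj : IsConj (g : H) (((h : Subgroup.centralizer (R : Set H)) : H)) := by
        have := (Finset.mem_filter.mp hh).2
        exact this
      obtain ⟨c, hc⟩ := isConj_iff.mp hconj
      have h1 : (θ₀ : K₀ → ℂ) g =
          glRes K₀ (Subgroup.centralizer (R : Set H)) (θ₀ : K₀ → ℂ) h :=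
        (hinv c g ⟨((h : Subgroup.centralizer (R : Set H)) : H), h.2⟩ hc.symm).symm
      have h2 : (θ₀ : K₀ → ℂ) 1 =
          glRes K₀ (Subgroup.centralizer (R : Set H)) (θ₀ : K₀ → ℂ) 1 := by
        unfold glRes
        congr 1
      rw [h1, h2]
      exact gl_ratio hM hcopK₁ _ (glRes_isCharacter K₀ _ _ (isCharacter_of_irr θ₀)) d
        (by rw [← h2]; exact hd) hdp θ₁ hθ₁ h

end Cfsg.Agent.Lib.helper2.PT
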