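import Mathlib
import Cfsg.Agent.Lib.helper2.PT.Defs
import Cfsg.Agent.Lib.helper2.PParts
import Cfsg.Agent.Lib.helper7.BlockBrauer2
import Cfsg.Agent.Lib.helper7.BlockCover3
import Cfsg.Agent.Lib.Helper24.ExtFirstMain3
import Cfsg.Agent.Lib.Helper24.QuotDefect2
import Cfsg.Agent.S0906

/-!
# S4642, main induction: `StarProp` from the pieces
-/

set_option autoImplicit false
set_option linter.unusedSectionVars false
set_option linter.unusedVariables false

namespace Cfsg.Agent.Lib.helper2.PT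

universe u

open Cfsg Cfsg.Agent.Lib.helper7 Cfsg.Agent.Lib.Helper24

/-- every block has a defect group -/
theorem exists_defectGroup {H : Type u} [Group H] [Finite H] (p : ℕ) [Fact p.Prime]
    (M : Ideal AlgInt) (hM : IsPModular p M) (B : Set (IrrCharacter H)) (hB : IsPBlock M B) :
    ∃ D : Subgroup H, IsDefectGroup p M B D := by
  obtain ⟨g, hg⟩ := Cfsg.Agent.S0906.result p M hM B hB
  obtain ⟨P⟩ : Nonempty (Sylow p (Subgroup.centralizer ({g} : Set H))) := inferInstance
  exact ⟨_, g, hg, P, rfl⟩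

/-- a `p`-regular element of `L₀` lies in `K₀` -/
theorem pregular_mem {p : ℕ} [hp : Fact p.Prime] {H : Type u} [Group H] [Finite H]
    {K₀ L₀ : Subgroup H} (S : Setup p K₀ L₀) (l : H) (hl : l ∈ L₀) (hreg : ¬ p ∣ orderOf l) :
    l ∈ K₀ := by
  haveI := S.nK
  haveI : (K₀.subgroupOf L₀).Normal := Subgroup.Normal.subgroupOf S.nK L₀
  have hidx : ∃ k : ℕ, (K₀.subgroupOf L₀).index = p ^ k := S.pow
  have h := h7_pregular_mem_of_index_pow p (K₀.subgroupOf L₀) hidx (⟨l, hl⟩ : L₀)
    (by rw [← Subgroup.orderOf_coe]; exact hreg)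
  exact h

/-- if all `p`-elements of `L₀` are central, every `p`-regular element lies in `K₀` -/
theorem pregular_mem_of_central {p : ℕ} [hp : Fact p.Prime] {H : Type u} [Group H] [Finite H]
    {K₀ L₀ : Subgroup H} (S : Setup p K₀ L₀)
    (hcen : ∀ u : H, u ∈ L₀ → (∃ k : ℕ, orderOf u = p ^ k) → u ∈ Subgroup.center H)
    (x : H) (hx : ¬ p ∣ orderOf x) : x ∈ K₀ := by
  haveI := S.nK
  apply S.cent x hx
  intro l hl
  obtain ⟨r, u, hru, hcomm, hr, hu, hrz, huz⟩ := pp_exists p hp.out l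
  have hzl : Subgroup.zpowers l ≤ L₀ := by
    rw [Subgroup.zpowers_le]; exact hl
  have hrL : r ∈ L₀ := hzl hrz
  have huL : u ∈ L₀ := hzl huz
  have hrK : r ∈ K₀ := pregular_mem S r hrL hr
  have huc := hcen u huL hu
  have hux : x * u = u * x := Subgroup.mem_center_iff.mp huc x
  have e : x * l * x⁻¹ * l⁻¹ = (x * r * x⁻¹) * r⁻¹ := by
    rw [← hru]
    have : x * (r * u) * x⁻¹ = (x * r * x⁻¹) * u := by
      calc x * (r * u) * x⁻¹ = x * r * (u * x⁻¹) := by group
        _ = x * r * (x⁻¹ * u) := by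
          have : u * x⁻¹ = x⁻¹ * u := by
            have h1 : x⁻¹ * (x * u) * x⁻¹ = x⁻¹ * (u * x) * x⁻¹ := by rw [hux]
            have h2 : x⁻¹ * (x * u) * x⁻¹ = u * x⁻¹ := by group
            have h3 : x⁻¹ * (u * x) * x⁻¹ = x⁻¹ * u := by group
            rw [← h2, h1, h3]
          rw [this]
        _ = (x * r * x⁻¹) * u := by group
    rw [this]
    group
  rw [e]
  exact K₀.mul_mem (S.nK.conj_mem r hrK x) (K₀.inv_mem hrK)

/-- a subgroup whose centralizer is everything is central -/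
theorem le_center_of_centralizer_eq_top {H : Type u} [Group H] (D : Subgroup H)
    (h : Subgroup.centralizer (D : Set H) = ⊤) : D ≤ Subgroup.center H := by
  intro d hd
  rw [Subgroup.mem_center_iff]
  intro g
  have hg : g ∈ Subgroup.centralizer (D : Set H) := by rw [h]; trivial
  exact (Subgroup.mem_centralizer_iff.mp hg d hd).symm

theorem star_of (h1 : Case0Prop.{u}) (h2 : BigBlockProp.{u}) (h3 : TDProp.{u})
    (h5 : TransferProp.{u}) (h6 : GlaubProp.{u}) (h7 : IndFromCentProp.{u})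
    (h8 : LieOverProp.{u}) : StarProp.{u} := by
  intro p hp M hM
  have hPr := hM.2.1.isPrime
  -- strong induction on the order
  suffices key : ∀ n : ℕ, ∀ (H : Type u) [Group H] [Fintype H], Nat.card H = n →
      ∀ (K₀ L₀ : Subgroup H) [Fintype K₀], Setup p K₀ L₀ →
      ∀ θ₀ : IrrCharacter K₀, Inv K₀ (θ₀ : K₀ → ℂ) →
      ∀ χ ψ : IrrCharacter H, Over K₀ (θ₀ : K₀ → ℂ) (χ : H → ℂ) →
        Over K₀ (θ₀ : K₀ → ℂ) (ψ : H → ℂ) → SameBlock M (χ : H → ℂ) (ψ : H → ℂ) by
    intro H _ _ K₀ L₀ _ S θ₀ hinv χ ψ hχ hψ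
    exact key (Nat.card H) H rfl K₀ L₀ S θ₀ hinv χ ψ hχ hψ
  intro n
  induction n using Nat.strong_induction_on with
  | _ n ih =>
  intro H _ _ hn K₀ L₀ _ S θ₀ hinv χ ψ hχ hψ
  haveI := S.nK
  haveI := S.nL
  haveI : Fintype (IrrCharacter H) := Fintype.ofFinite _
  by_cases hall : ∀ c : H, ¬ p ∣ orderOf c → c ∈ K₀
  · exact h1 p M hM H K₀ S.cop hall θ₀ χ ψ hχ hψ
  · push Not at hall
    obtain ⟨x, hx, hxK⟩ := hall
    obtain ⟨ξ₀, hξ₀over, hξ₀deg, hξ₀syl⟩ := h2 p M hM H K₀ S.cop θ₀ hinv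
    -- every character over θ₀ is in the block of ξ₀
    have main : ∀ χ : IrrCharacter H, Over K₀ (θ₀ : K₀ → ℂ) (χ : H → ℂ) →
        SameBlock M (ξ₀ : H → ℂ) (χ : H → ℂ) := by
      intro χ hχ
      have hB' : IsPBlock M (blockOf M (χ : H → ℂ)) := ⟨χ, rfl⟩
      have hB₀ : IsPBlock M (blockOf M (ξ₀ : H → ℂ)) := ⟨ξ₀, rfl⟩
      obtain ⟨D', hD'⟩ := exists_defectGroup p M hM _ hB'
      have hD'p : IsPGroup p D' := ef_isPGroup_of_defect hD'
      -- D' is not central
      have hnc : Subgroup.centralizer (D' : Set H) ≠ ⊤ := by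
        intro htop
        have hDc := le_center_of_centralizer_eq_top D' htop
        apply hxK
        apply pregular_mem_of_central S _ x hx
        intro u huL hu
        obtain ⟨D, hD, huD⟩ := h3 p M hM H K₀ L₀ S θ₀ hinv χ hχ u huL hu
        obtain ⟨y, hy⟩ := qh_defect_conj p M hM _ hB' D' D hD' hD
        rw [hy] at huD
        obtain ⟨d, hd, rfl⟩ := huD
        have hdc := hDc hd
        have : (MulAut.conj y).toMonoidHom d = d := by
          show y * d * y⁻¹ = d
          rw [Subgroup.mem_center_iff.mp hdc y, mul_inv_cancel_right]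
        rw [this]
        exact hdc
      haveI : Fintype (Subgroup.centralizer (D' : Set H)) := Fintype.ofFinite _
      haveI : Fintype (IrrCharacter (Subgroup.centralizer (D' : Set H))) := Fintype.ofFinite _
      have hlt : Nat.card (Subgroup.centralizer (D' : Set H)) < n := by
        rw [← hn]
        have hle : Nat.card (Subgroup.centralizer (D' : Set H)) ≤ Nat.card H :=
          Subgroup.card_le_card_group _
        rcases hle.lt_or_eq with h | h
        · exact h
        · exact absurd (Subgroup.card_eq_iff_eq_top _ |>.mp h) hnc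
      -- induced from C
      obtain ⟨f', hf'⟩ := h7 p M hM H _ hB' D' hD' D' le_rfl
      obtain ⟨S₀, hS₀⟩ := hD'p.exists_le_sylow
      obtain ⟨f₀, hf₀⟩ := h7 p M hM H _ hB₀ (S₀ : Subgroup H) (hξ₀syl S₀) D' hS₀
      haveI : Fintype (K₀.subgroupOf (Subgroup.centralizer (D' : Set H))) := Fintype.ofFinite _
      have S₁ : Setup p (K₀.subgroupOf (Subgroup.centralizer (D' : Set H)))
          (L₀.subgroupOf (Subgroup.centralizer (D' : Set H))) := h5 p H K₀ L₀ S D' hD'p
      obtain ⟨θ₁, hθ₁inv, hglaub, -⟩ := h6 p M hM H K₀ S.cop θ₀ hinv D' hD'p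
      obtain ⟨ζ', hζ'⟩ := hf'.1
      obtain ⟨ζ₀, hζ₀⟩ := hf₀.1
      have hζ'mem : ζ' ∈ f' := by rw [hζ']; exact h7_sameBlock_refl hPr _
      have hζ₀mem : ζ₀ ∈ f₀ := by rw [hζ₀]; exact h7_sameBlock_refl hPr _
      have o' := h8 p M hM H K₀ S.cop θ₀ hinv D' hD'p θ₁ hglaub χ hχ f' hf' ζ' hζ'mem
      have o₀ := h8 p M hM H K₀ S.cop θ₀ hinv D' hD'p θ₁ hglaub ξ₀ hξ₀over f₀ hf₀ ζ₀ hζ₀mem
      have hs : SameBlock M (ζ₀ : Subgroup.centralizer (D' : Set H) → ℂ)
          (ζ' : Subgroup.centralizer (D' : Set H) → ℂ) :=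
        ih (Nat.card (Subgroup.centralizer (D' : Set H))) hlt
          (Subgroup.centralizer (D' : Set H)) rfl _ _ S₁ θ₁ hθ₁inv ζ₀ ζ' o₀ o'
      intro g
      have e1 := hf'.2.2 ζ' hζ'mem χ (h7_sameBlock_refl hPr _) g
      have e2 := hf₀.2.2 ζ₀ hζ₀mem ξ₀ (h7_sameBlock_refl hPr _) g
      have e3 := h7_icc_congr' (Subgroup.centralizer (D' : Set H)) hPr ζ₀ ζ' hs g
      have e : centralChar (ξ₀ : H → ℂ) g - centralChar (χ : H → ℂ) g =
          -(inducedCentralChar (Subgroup.centralizer (D' : Set H))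
              (ζ₀ : Subgroup.centralizer (D' : Set H) → ℂ) g - centralChar (ξ₀ : H → ℂ) g) +
          (inducedCentralChar (Subgroup.centralizer (D' : Set H))
              (ζ₀ : Subgroup.centralizer (D' : Set H) → ℂ) g -
            inducedCentralChar (Subgroup.centralizer (D' : Set H))
              (ζ' : Subgroup.centralizer (D' : Set H) → ℂ) g) +
          (inducedCentralChar (Subgroup.centralizer (D' : Set H))
              (ζ' : Subgroup.centralizer (D' : Set H) → ℂ) g - centralChar (χ : H → ℂ) g) := by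
        ring
      rw [e]
      exact h7_memLocalIdeal_add hPr (h7_memLocalIdeal_add hPr (h7_memLocalIdeal_neg e2) e3) e1
    exact h7_sameBlock_trans hPr (h7_sameBlock_symm (main χ hχ)) (main ψ hψ)

end Cfsg.Agent.Lib.helper2.PT
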