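import Mathlib
import Cfsg.Agent.Lib.helper2.PT.Defs
import Cfsg.Agent.Lib.helper2.PT.Main1
import Cfsg.Agent.Lib.helper7.Clifford
import Cfsg.Agent.Lib.helper7.BlockQuot2
import Cfsg.Agent.Lib.helper7.BlockBrauer2

/-!
# S4642, principal type: the statement from the pieces
-/

set_option autoImplicit false
set_option linter.unusedSectionVars false
set_option linter.unusedVariables false
set_option linter.style.haveILetI false

namespace Cfsg.Agent.Lib.helper2.PT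

universe u

open Cfsg Cfsg.Agent.Lib.helper7 Cfsg.Agent.Lib.Helper24 Cfsg.Agent.Lib.Helper11
  Cfsg.Agent.Lib.helper2

/-- invariance in the `cj` form -/
theorem inv_cj {H : Type u} [Group H] (K₀ : Subgroup H) [hK : K₀.Normal] (θ₀ : K₀ → ℂ)
    (hinv : Inv K₀ θ₀) (g : H) : cj K₀ θ₀ g = θ₀ := by
  funext k
  rw [cj_apply]
  exact hinv g k _ rfl

/-- Clifford for an invariant character: the ratio `χ(k)/χ(1)` is `θ₀(k)/θ₀(1)` -/
theorem ratio_over {H : Type u} [Group H] [Fintype H] (K₀ : Subgroup H) [hK : K₀.Normal]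
    [Fintype K₀] (θ₀ : IrrCharacter K₀) (hinv : Inv K₀ (θ₀ : K₀ → ℂ)) (χ : IrrCharacter H)
    (hχ : Over K₀ (θ₀ : K₀ → ℂ) (χ : H → ℂ)) (k : K₀) :
    (χ : H → ℂ) k / (χ : H → ℂ) 1 = (θ₀ : K₀ → ℂ) k / (θ₀ : K₀ → ℂ) 1 := by
  obtain ⟨e, he, h1, h2⟩ := h7_clifford_invariant K₀ (χ : H → ℂ) χ.2 (θ₀ : K₀ → ℂ) θ₀.2 hχ
    (inv_cj K₀ _ hinv)
  have hk := congrFun h2 k
  have h1' := congrFun h2 1
  simp only [Pi.smul_apply, smul_eq_mul] at hk h1'
  have h1'' : (χ : H → ℂ) 1 = (e : ℂ) * (θ₀ : K₀ → ℂ) 1 := by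
    rw [← h1']
    simp
  rw [hk, h1'']
  have he' : (e : ℂ) ≠ 0 := by exact_mod_cast he.ne'
  exact mul_div_mul_left _ _ he'

/-- the characters over `θ₀` form the block of a character of degree prime to `p`, of full
defect -/
theorem block_of (hstar : StarProp.{u}) (hOC : OverClosedProp.{u}) (hBB : BigBlockProp.{u})
    (p : ℕ) [Fact p.Prime] (M : Ideal AlgInt) (hM : IsPModular p M)
    (H : Type u) [Group H] [Fintype H] (K₀ L₀ : Subgroup H) [Fintype K₀] (S : Setup p K₀ L₀)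
    (θ₀ : IrrCharacter K₀) (hinv : Inv K₀ (θ₀ : K₀ → ℂ)) :
    ∃ ξ₀ : IrrCharacter H, Over K₀ (θ₀ : K₀ → ℂ) (ξ₀ : H → ℂ) ∧
      ¬ p ∣ charDegree (ξ₀ : H → ℂ) ∧
      (∀ P : Sylow p H, IsDefectGroup p M (blockOf M (ξ₀ : H → ℂ)) (P : Subgroup H)) ∧
      ∀ χ : IrrCharacter H, χ ∈ blockOf M (ξ₀ : H → ℂ) ↔ Over K₀ (θ₀ : K₀ → ℂ) (χ : H → ℂ) := by
  haveI := S.nK
  obtain ⟨ξ₀, h1, h2, h3⟩ := hBB p M hM H K₀ S.cop θ₀ hinv
  exact ⟨ξ₀, h1, h2, h3, fun χ => ⟨fun h => hOC p M hM H K₀ S.cop θ₀ hinv ξ₀ χ h h1,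
    fun h => hstar p M hM H K₀ L₀ S θ₀ hinv ξ₀ χ h1 h⟩⟩

/-- central characters of characters over `θ₀` vanish modulo the ideal at `p`-regular elements
outside `K₀` -/
theorem vanish (hstar : StarProp.{u}) (hBB : BigBlockProp.{u}) (hCD : ClassDvdProp.{u})
    (p : ℕ) [hp : Fact p.Prime] (M : Ideal AlgInt) (hM : IsPModular p M)
    (H : Type u) [Group H] [Fintype H] (K₀ L₀ : Subgroup H) [Fintype K₀] (S : Setup p K₀ L₀)
    (θ₀ : IrrCharacter K₀) (hinv : Inv K₀ (θ₀ : K₀ → ℂ)) (χ : IrrCharacter H)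
    (hχ : Over K₀ (θ₀ : K₀ → ℂ) (χ : H → ℂ)) (g : H) (hg : ¬ p ∣ orderOf g) (hgK : g ∉ K₀) :
    MemLocalIdeal M (centralChar (χ : H → ℂ) g) := by
  have hMp := hM.2.1.isPrime
  haveI := S.nK
  obtain ⟨ξ, hξover, hξdeg, -⟩ := hBB p M hM H K₀ S.cop θ₀ hinv
  have hs : SameBlock M (ξ : H → ℂ) (χ : H → ℂ) := hstar p M hM H K₀ L₀ S θ₀ hinv ξ χ hξover hχ
  have hzero : MemLocalIdeal M (centralChar (ξ : H → ℂ) g) := by
    obtain ⟨m, hm⟩ := hCD p H K₀ L₀ S g hg hgK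
    obtain ⟨-, hdpos, hd1⟩ := h7_charDegree_props ξ
    have hcop : (charDegree (ξ : H → ℂ)).Coprime p :=
      ((Nat.Prime.coprime_iff_not_dvd hp.out).mpr hξdeg).symm
    unfold centralChar
    rw [hm, ← hd1]
    have e : ((p * m : ℕ) : ℂ) * (ξ : H → ℂ) g / ((charDegree (ξ : H → ℂ) : ℕ) : ℂ) =
        (p : ℂ) * ((m : ℂ) * (ξ : H → ℂ) g * ((charDegree (ξ : H → ℂ) : ℕ) : ℂ)⁻¹) := by
      push_cast
      ring
    rw [e]
    apply h7_memLocalIdeal_mul_right hMp (h7_memLocalIdeal_p hM)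
    exact h7_memLocalRing_mul hMp (h7_memLocalRing_mul hMp (h7_memLocalRing_natCast hMp m)
      (h7_memLocalRing_of_isIntegral hMp (irr_integral ξ g)))
      (h7_memLocalRing_inv_natCast hM _ hcop)
  have := h7_memLocalIdeal_sub hMp hzero (hs g)
  rwa [sub_sub_cancel] at this

/-- the induced central character from `C` agrees with the central character of `χ` at the
elements of `K₀` and at the `p`-regular elements -/
theorem induced_of (p : ℕ) [hp : Fact p.Prime] (M : Ideal AlgInt) (hM : IsPModular p M)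
    (H : Type u) [Group H] [Fintype H] (K₀ : Subgroup H) [hK : K₀.Normal] [Fintype K₀]
    (θ₀ : IrrCharacter K₀) (hinv : Inv K₀ (θ₀ : K₀ → ℂ))
    (C : Subgroup H) [Fintype C] [Fintype (K₀.subgroupOf C)]
    (θ₁ : IrrCharacter (K₀.subgroupOf C))
    (hθ₁inv : Inv (K₀.subgroupOf C) (θ₁ : K₀.subgroupOf C → ℂ))
    (hcong : ∀ g : K₀, MemLocalIdeal M
      (((Subgroup.centralizer ({(g : H)} : Set H)).index : ℂ) * (θ₀ : K₀ → ℂ) g /
          (θ₀ : K₀ → ℂ) 1 -
        ∑ᶠ h ∈ {h : K₀.subgroupOf C | IsConj (g : H) (((h : C) : H))},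
          (θ₁ : K₀.subgroupOf C → ℂ) h / (θ₁ : K₀.subgroupOf C → ℂ) 1))
    (χ : IrrCharacter H) (hχ : Over K₀ (θ₀ : K₀ → ℂ) (χ : H → ℂ))
    (ξ : IrrCharacter C) (hξ : Over (K₀.subgroupOf C) (θ₁ : K₀.subgroupOf C → ℂ) (ξ : C → ℂ))
    (hvH : ∀ g : H, ¬ p ∣ orderOf g → g ∉ K₀ → MemLocalIdeal M (centralChar (χ : H → ℂ) g))
    (hvC : ∀ h : C, ¬ p ∣ orderOf h → h ∉ K₀.subgroupOf C →
      MemLocalIdeal M (centralChar (ξ : C → ℂ) h))
    (g : H) (hg : ¬ p ∣ orderOf g) :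
    MemLocalIdeal M (inducedCentralChar C (ξ : C → ℂ) g - centralChar (χ : H → ℂ) g) := by
  classical
  have hMp := hM.2.1.isPrime
  haveI : Fintype (ConjClasses C) := Fintype.ofFinite _
  by_cases hgK : g ∈ K₀
  · -- inside `K₀`
    have h1 : centralChar (χ : H → ℂ) g =
        ((Subgroup.centralizer ({g} : Set H)).index : ℂ) * (θ₀ : K₀ → ℂ) ⟨g, hgK⟩ /
          (θ₀ : K₀ → ℂ) 1 := by
      unfold centralChar
      rw [mul_div_assoc, mul_div_assoc]
      congr 1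
      exact ratio_over K₀ θ₀ hinv χ hχ ⟨g, hgK⟩
    have hset : {h : C | IsConj g (h : H)} =
        (Subtype.val : K₀.subgroupOf C → C) '' {k : K₀.subgroupOf C | IsConj g (((k : C) : H))} := by
      ext h
      constructor
      · intro hh
        have hmem : h ∈ K₀.subgroupOf C := by
          rw [Subgroup.mem_subgroupOf]
          obtain ⟨c, hc⟩ := isConj_iff.mp hh
          rw [← hc]
          exact hK.conj_mem g hgK c
        exact ⟨⟨h, hmem⟩, hh, rfl⟩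
      · rintro ⟨k, hk, rfl⟩
        exact hk
    have h2 : inducedCentralChar C (ξ : C → ℂ) g =
        ∑ᶠ k ∈ {k : K₀.subgroupOf C | IsConj g (((k : C) : H))},
          (θ₁ : K₀.subgroupOf C → ℂ) k / (θ₁ : K₀.subgroupOf C → ℂ) 1 := by
      unfold inducedCentralChar
      rw [hset, finsum_mem_image Subtype.val_injective.injOn]
      apply finsum_mem_congr rfl
      intro k _
      exact ratio_over (K₀.subgroupOf C) θ₁ hθ₁inv ξ hξ k
    rw [h1, h2]
    have := h7_memLocalIdeal_neg (hcong ⟨g, hgK⟩)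
    rwa [neg_sub] at this
  · -- outside `K₀`: both vanish
    apply h7_memLocalIdeal_sub hMp _ (hvH g hg hgK)
    rw [h7_icc_expand' C ξ g]
    apply h7_memLocalIdeal_sum hMp
    intro L _
    by_cases hc : IsConj g ((Quotient.out L : C) : H)
    · rw [if_pos hc, one_mul]
      apply hvC
      · rw [← Subgroup.orderOf_coe]
        obtain ⟨c, hcc⟩ := isConj_iff.mp hc
        rw [← hcc]
        have : orderOf (c * g * c⁻¹) = orderOf g := by
          have := orderOf_injective (MulAut.conj c).toMonoidHom (MulAut.conj c).injective g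
          simpa using this
        rw [this]
        exact hg
      · intro hmem
        apply hgK
        obtain ⟨c, hcc⟩ := isConj_iff.mp hc.symm
        rw [← hcc]
        exact hK.conj_mem _ (Subgroup.mem_subgroupOf.mp hmem) c
    · rw [if_neg hc, zero_mul]
      exact h7_memLocalIdeal_zero hMp

/-- The statement from the pieces. -/
theorem ptype_of (hstar : StarProp.{u}) (hOC : OverClosedProp.{u}) (hBB : BigBlockProp.{u})
    (hCD : ClassDvdProp.{u}) (hTr : TransferProp.{u}) (hGl : GlaubProp.{u})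
    (hBC : BrauerCentProp.{u}) (hLO : LieOverProp.{u})
    (p : ℕ) [hp : Fact p.Prime] (M : Ideal AlgInt) (hM : IsPModular p M)
    (H : Type u) [Group H] [Fintype H] (K₀ L₀ : Subgroup H) [Fintype K₀] (S : Setup p K₀ L₀)
    (θ₀ : IrrCharacter K₀) (hinv : Inv K₀ (θ₀ : K₀ → ℂ)) (B : Set (IrrCharacter H))
    (hB : ∀ χ : IrrCharacter H, χ ∈ B ↔ Over K₀ (θ₀ : K₀ → ℂ) (χ : H → ℂ)) :
    IsPBlock M B ∧ (∀ P : Sylow p H, IsDefectGroup p M B (P : Subgroup H)) ∧
      ∀ R : Subgroup H, IsPGroup p R →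
        ∃! f : Set (IrrCharacter (Subgroup.centralizer (R : Set H))),
          IsInducedBlock M (Subgroup.centralizer (R : Set H)) f B := by
  classical
  have hPr := hM.2.1.isPrime
  haveI := S.nK
  haveI : Fintype (IrrCharacter H) := Fintype.ofFinite _
  obtain ⟨ξ₀, hξ₀over, hξ₀deg, hξ₀syl, hξ₀mem⟩ :=
    block_of hstar hOC hBB p M hM H K₀ L₀ S θ₀ hinv
  have hBeq : B = blockOf M (ξ₀ : H → ℂ) := by
    ext χ
    rw [hB, hξ₀mem]
  refine ⟨⟨ξ₀, hBeq⟩, fun P => by rw [hBeq]; exact hξ₀syl P, ?_⟩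
  intro R hR
  haveI : Fintype (Subgroup.centralizer (R : Set H)) := Fintype.ofFinite _
  haveI : Fintype (K₀.subgroupOf (Subgroup.centralizer (R : Set H))) := Fintype.ofFinite _
  haveI : Fintype (IrrCharacter (Subgroup.centralizer (R : Set H))) := Fintype.ofFinite _
  have S₁ := hTr p H K₀ L₀ S R hR
  obtain ⟨θ₁, hθ₁inv, hglaub, hcong⟩ := hGl p M hM H K₀ S.cop θ₀ hinv R hR
  obtain ⟨ξ₁, hξ₁over, hξ₁deg, hξ₁syl, hξ₁mem⟩ :=
    block_of hstar hOC hBB p M hM (Subgroup.centralizer (R : Set H)) _ _ S₁ θ₁ hθ₁inv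
  have hex : IsInducedBlock M (Subgroup.centralizer (R : Set H))
      (blockOf M (ξ₁ : Subgroup.centralizer (R : Set H) → ℂ)) B := by
    refine ⟨⟨ξ₁, rfl⟩, ⟨ξ₀, hBeq⟩, ?_⟩
    intro ξ hξ χ hχ g
    have hξover := (hξ₁mem ξ).mp hξ
    have hχover := (hB χ).mp hχ
    have key : ∀ x : H, ¬ p ∣ orderOf x → MemLocalIdeal M
        (inducedCentralChar (Subgroup.centralizer (R : Set H))
          (ξ : Subgroup.centralizer (R : Set H) → ℂ) x - centralChar (χ : H → ℂ) x) := by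
      intro x hx
      exact induced_of p M hM H K₀ θ₀ hinv (Subgroup.centralizer (R : Set H)) θ₁ hθ₁inv hcong
        χ hχover ξ hξover
        (fun y hy hyK => vanish hstar hBB hCD p M hM H K₀ L₀ S θ₀ hinv χ hχover y hy hyK)
        (fun y hy hyK => vanish hstar hBB hCD p M hM (Subgroup.centralizer (R : Set H)) _ _ S₁
          θ₁ hθ₁inv ξ hξover y hy hyK) x hx
    obtain ⟨χ₀, hχ₀⟩ := hBC p M hM H R hR ξ
    have hs : SameBlock M (χ₀ : H → ℂ) (χ : H → ℂ) := by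
      apply h7_sameBlock_of_pregular hM χ₀ χ
      intro x hx
      have := h7_memLocalIdeal_sub hPr (key x hx) (hχ₀ x)
      rwa [sub_sub_sub_cancel_left] at this
    have := h7_memLocalIdeal_add hPr (hχ₀ g) (hs g)
    rwa [sub_add_sub_cancel] at this
  refine ⟨blockOf M (ξ₁ : Subgroup.centralizer (R : Set H) → ℂ), hex, ?_⟩
  intro f' hf'
  obtain ⟨ζ', hζ'⟩ := hf'.1
  have hf'' : IsInducedBlock M (Subgroup.centralizer (R : Set H)) f'
      (blockOf M (ξ₀ : H → ℂ)) := by rw [← hBeq]; exact hf'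
  have hsub := hLO p M hM H K₀ S.cop θ₀ hinv R hR θ₁ hglaub ξ₀ hξ₀over f' hf''
  have hζ'mem : ζ' ∈ f' := by rw [hζ']; exact h7_sameBlock_refl hPr _
  have h1 : SameBlock M (ξ₁ : Subgroup.centralizer (R : Set H) → ℂ)
      (ζ' : Subgroup.centralizer (R : Set H) → ℂ) := (hξ₁mem ζ').mpr (hsub ζ' hζ'mem)
  rw [hζ']
  ext ξ
  exact ⟨fun h => h7_sameBlock_trans hPr h1 h,
    fun h => h7_sameBlock_trans hPr (h7_sameBlock_symm h1) h⟩

end Cfsg.Agent.Lib.helper2.PT
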