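import Mathlib
import Cfsg.Agent.Lib.helper2.PT.Defs
import Cfsg.Agent.Lib.helper2.PT.Main1
import Cfsg.Agent.Lib.helper2.PT.Main2
import Cfsg.Agent.Lib.helper17.PTTransfer
import Cfsg.Agent.Lib.Helper1.Cores
import Cfsg.Agent.Lib.Helper1.Fitting
import Cfsg.Agent.Lib.Helper5.PConstr

/-!
# S4642: the hypotheses of the statement give the standing hypotheses `Setup`; final assembly
-/

set_option autoImplicit false
set_option linter.unusedSectionVars false
set_option linter.unusedVariables false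
set_option linter.style.haveILetI false

namespace Cfsg.Agent.Lib.helper2.PT

universe u

open Cfsg Cfsg.Agent.Lib.helper7

/-- the hypotheses of S4642 give `Setup` -/
theorem setup_of {G : Type u} [Group G] [Finite G] (p : ℕ) [hp : Fact p.Prime] (Q : Subgroup G)
    (hQL : Q ≤ pPrimePCore p G) (hQp : IsPGroup p Q)
    (hCQ : Subgroup.centralizer (Q : Set G) ≤ pPrimePCore p G) :
    Setup p (pPrimeCore p G) (pPrimePCore p G) := by
  have nK : (pPrimeCore p G).Normal := Cfsg.Agent.Lib.Helper1.pPrimeCore_normal p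
  have nL : (pPrimePCore p G).Normal := Cfsg.Agent.Lib.Helper5.h5_pPrimePCore_normal p G
  have hle : pPrimeCore p G ≤ pPrimePCore p G :=
    Cfsg.Agent.Lib.Helper5.h5_pPrimeCore_le_pPrimePCore p G
  have hcop : (Nat.card (pPrimeCore p G)).Coprime p :=
    Cfsg.Agent.Lib.Helper1.pPrimeCore_card_coprime p
  have hpow : ∃ k : ℕ, (pPrimeCore p G).relIndex (pPrimePCore p G) = p ^ k := by
    haveI := nK
    apply Cfsg.Agent.Lib.helper17.PT.relIndex_eq_pow_of_pow_mem p
    intro x hx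
    rw [Cfsg.Agent.Lib.Helper5.h5_mem_pPrimePCore_iff] at hx
    obtain ⟨n, hn⟩ := (Cfsg.Agent.Lib.Helper1.pCore_isPGroup (G := G ⧸ pPrimeCore p G) p) ⟨_, hx⟩
    refine ⟨n, ?_⟩
    have h1 := congrArg Subtype.val hn
    simp only [Subgroup.coe_pow, Subgroup.coe_one] at h1
    rw [← map_pow] at h1
    exact (QuotientGroup.eq_one_iff _).mp h1
  refine ⟨nK, nL, hle, hcop, hpow, ?_⟩
  intro c hc hact
  have hcL : c ∈ pPrimePCore p G := by
    have hnd : ¬ p ∣ Nat.card (pPrimeCore p G) := by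
      intro h
      have := Nat.Coprime.eq_one_of_dvd hcop.symm h
      exact hp.out.one_lt.ne' this
    obtain ⟨v, hv, hfix⟩ := Cfsg.Agent.Lib.helper17.PT.exists_fixed_in_coset_of_pgroup
      (pPrimeCore p G) p hnd Q hQp c (by
        intro r hr x hx
        have h1 : c * r * c⁻¹ * r⁻¹ ∈ pPrimeCore p G := hact r (hQL hr)
        have h2 : c⁻¹ * r * c * r⁻¹ ∈ pPrimeCore p G := by
          have e : c⁻¹ * r * c * r⁻¹ = c⁻¹ * (c * r * c⁻¹ * r⁻¹)⁻¹ * c⁻¹⁻¹ := by group
          rw [e]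
          exact nK.conj_mem _ (Subgroup.inv_mem _ h1) c⁻¹
        have h3 : r * (c⁻¹ * x) * r⁻¹ ∈ pPrimeCore p G := nK.conj_mem _ hx r
        have e : c⁻¹ * (r * x * r⁻¹) = (c⁻¹ * r * c * r⁻¹) * (r * (c⁻¹ * x) * r⁻¹) := by group
        rw [e]
        exact Subgroup.mul_mem _ h2 h3)
    have hcv : c * v ∈ Subgroup.centralizer (Q : Set G) := by
      rw [Subgroup.mem_centralizer_iff]
      intro r hr
      have := hfix r hr
      calc r * (c * v) = (r * (c * v) * r⁻¹) * r := by group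
        _ = c * v * r := by rw [this]
    have h2 := hCQ hcv
    have e : c = (c * v) * v⁻¹ := by group
    rw [e]
    exact Subgroup.mul_mem _ h2 (Subgroup.inv_mem _ (hle hv))
  haveI := nK
  haveI : ((pPrimeCore p G).subgroupOf (pPrimePCore p G)).Normal :=
    Subgroup.Normal.subgroupOf nK _
  have hidx : ∃ k : ℕ, ((pPrimeCore p G).subgroupOf (pPrimePCore p G)).index = p ^ k := hpow
  have h := h7_pregular_mem_of_index_pow p ((pPrimeCore p G).subgroupOf (pPrimePCore p G)) hidx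
    (⟨c, hcL⟩ : pPrimePCore p G) (by rw [← Subgroup.orderOf_coe]; exact hc)
  exact h

/-- S4642 from the pieces -/
theorem s4642_of (hC0 : Case0Prop.{u}) (hBB : BigBlockProp.{u}) (hOC : OverClosedProp.{u})
    (hTD : TDProp.{u}) (hTr : TransferProp.{u}) (hGl : GlaubProp.{u})
    (hIFC : IndFromCentProp.{u}) (hLO : LieOverProp.{u}) (hCD : ClassDvdProp.{u})
    (hBC : BrauerCentProp.{u})
    {G : Type u} [Group G] [Fintype G] (p : ℕ) [Fact p.Prime] (M : Ideal AlgInt)
    (hM : IsPModular p M) (K : Subgroup G) (hK : K = pPrimeCore p G) [Fintype K]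
    (L : Subgroup G) (hL : L = pPrimePCore p G) (Q : Subgroup G) (hQL : Q ≤ L)
    (hQp : IsPGroup p Q) (hCQ : Subgroup.centralizer (Q : Set G) ≤ L)
    (θ : IrrCharacter K) (hθ : ∀ g : G, IsConjCharOf K g (θ : K → ℂ) (θ : K → ℂ))
    (B : Set (IrrCharacter G))
    (hBdef : ∀ χ : IrrCharacter G, χ ∈ B ↔
      classInner (fun k : K => (χ : G → ℂ) k) (θ : K → ℂ) ≠ 0) :
    IsPBlock M B ∧ (∀ S : Sylow p G, IsDefectGroup p M B S) ∧
      ∀ R : Subgroup G, IsPGroup p R →
        ∃! f : Set (IrrCharacter (Subgroup.centralizer (R : Set G))),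
          IsInducedBlock M (Subgroup.centralizer (R : Set G)) f B := by
  subst hK
  subst hL
  exact ptype_of (star_of hC0 hBB hTD hTr hGl hIFC hLO) hOC hBB hCD hTr hGl hBC hLO p M hM G
    _ _ (setup_of p Q hQL hQp hCQ) θ hθ B hBdef

end Cfsg.Agent.Lib.helper2.PT
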